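import Groth.Agent.L10.DualNat.Main
import Groth.Agent.L07.BvdB.DualHom
import Groth.Agent.L10.FMBC.Equiv
import Groth.Agent.L10.FMDiag.Basic
import Groth.Agent.L29.BC.AdjTensorGlobal

/-!
Right adjoints of kernel functors with perfect kernel.
-/

set_option autoImplicit false
set_option linter.style.haveILetI false
set_option backward.defeqAttrib.useBackward true
set_option backward.isDefEq.respectTransparency false
set_option backward.isDefEq.respectTransparency.types false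

universe u

open CategoryTheory CategoryTheory.Limits AlgebraicGeometry

attribute [local instance] HasDerivedCategory.standard

noncomputable section

namespace Groth.L10.FMAdj

open Groth.L29.BC Groth.L29.DC

section Cat

variable {C D E : Type*} [Category C] [Category D] [Category E]

/-- restriction of an adjunction to full subcategories -/
theorem nonempty_restrict {F : C ⥤ D} {G : D ⥤ C} (adj : F ⊣ G) (P : ObjectProperty C) (Q : ObjectProperty D)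
    (hF : ∀ M, P M → Q (F.obj M)) (hG : ∀ N, Q N → P (G.obj N)) :
    Nonempty (ObjectProperty.lift Q (P.ι ⋙ F) (fun M => hF M.obj M.property) ⊣
      ObjectProperty.lift P (Q.ι ⋙ G) (fun N => hG N.obj N.property)) :=
  ⟨adj.restrictFullyFaithful P.fullyFaithfulι Q.fullyFaithfulι (Iso.refl _) (Iso.refl _)⟩

end Cat

variable {X Y : Scheme.{u}}

/-- isomorphic schemes: `Lσ^* ⋙ Rσ_* ≅ 1` -/
theorem nonempty_Lpull_Rpush_iso (σ : X ⟶ Y) [IsIso σ] [DCoh.HasLpull σ] [DCoh.HasRpush σ] :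
    Nonempty (DCoh.Lpull σ ⋙ DCoh.Rpush σ ≅ 𝟭 (DCoh.D Y)) := by
  haveI := fun {A B : Scheme.{u}} (k : A ⟶ B) => Groth.L00.KFlat.hasLpull k
  obtain ⟨c₁⟩ := Groth.L10.FMBC.nonempty_lpull_comp' (inv σ) σ (IsIso.inv_hom_id σ)
  obtain ⟨c₂⟩ := Groth.L10.FMBC.nonempty_lpull_comp' σ (inv σ) (IsIso.hom_inv_id σ)
  obtain ⟨i₁⟩ := Groth.L10.FMDiag.nonempty_Lpull_id (X := Y)
  obtain ⟨i₂⟩ := Groth.L10.FMDiag.nonempty_Lpull_id (X := X)
  let e : DCoh.D Y ≌ DCoh.D X :=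
    CategoryTheory.Equivalence.mk (DCoh.Lpull σ) (DCoh.Lpull (inv σ)) (c₁ ≪≫ i₁).symm (c₂ ≪≫ i₂)
  exact ⟨Functor.isoWhiskerLeft _ ((Groth.L29.BC.adj σ).rightAdjointUniq e.toAdjunction) ≪≫ e.unitIso.symm⟩

variable {Z : Scheme.{u}}

/-- moving a kernel along an isomorphism -/
theorem nonempty_kernel_iso {Z' : Scheme.{u}} (σ : Z' ⟶ Z) [IsIso σ] {p : Z ⟶ X} {q : Z ⟶ Y} {p' : Z' ⟶ X}
    {q' : Z' ⟶ Y} (hp : σ ≫ p = p') (hq : σ ≫ q = q') (W : CochainComplex Z.Modules ℤ)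
    (W' : CochainComplex Z'.Modules ℤ) [DCoh.HasLpull σ]
    (hW : Nonempty (DCoh.toD _ W' ≅ (DCoh.Lpull σ).obj (DCoh.toD _ W)))
    [DCoh.HasLpull q] [DCoh.HasLTensorCx W] [DCoh.HasRpush p]
    [DCoh.HasLpull q'] [DCoh.HasLTensorCx W'] [DCoh.HasRpush p'] :
    Nonempty (DCoh.Lpull q' ⋙ DCoh.LTensorCx W' ⋙ DCoh.Rpush p' ≅
      DCoh.Lpull q ⋙ DCoh.LTensorCx W ⋙ DCoh.Rpush p) := by
  haveI := fun {A B : Scheme.{u}} (k : A ⟶ B) => RpushQC.hasRpush k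
  haveI := fun {V : Scheme.{u}} (E : CochainComplex V.Modules ℤ) => Groth.L00.KFlat.hasLTensorCx E
  obtain ⟨P, r, hP, -, hr, -⟩ := Groth.L00.KFlat.exists_resolution W
  haveI := (DerivedCategory.isIso_Q_map_iff_quasiIso _ r).2 hr
  let eP : DCoh.toD Z P ≅ DCoh.toD Z W := asIso (DerivedCategory.Q.map r)
  obtain ⟨c⟩ := ProjQC.nonempty_LTensorCx_congr eP
  obtain ⟨d⟩ := hW
  obtain ⟨c'⟩ := ProjQC.nonempty_LTensorCx_congr (d ≪≫ (DCoh.Lpull σ).mapIso eP.symm ≪≫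
    Groth.L00.DerivedApi.objIso (Groth.L00.DerivedApi.acyclicKFlat_pullback σ) P hP)
  obtain ⟨l⟩ := Groth.L10.FMBC.nonempty_lpull_comp' σ q hq
  obtain ⟨r'⟩ := Groth.L10.FMBC.nonempty_rpush_comp' σ p hp
  obtain ⟨t⟩ := Groth.L10.FMBC.nonempty_pullTensorD σ P hP
  obtain ⟨s⟩ := nonempty_Lpull_Rpush_iso σ
  refine ⟨?_⟩
  exact Functor.isoWhiskerRight l.symm (DCoh.LTensorCx W' ⋙ DCoh.Rpush p') ≪≫
    Functor.isoWhiskerLeft (DCoh.Lpull q ⋙ DCoh.Lpull σ) (Functor.isoWhiskerRight c' (DCoh.Rpush p') ≪≫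
      Functor.isoWhiskerLeft _ r'.symm) ≪≫
    Functor.isoWhiskerLeft (DCoh.Lpull q) (Functor.isoWhiskerRight t.symm (DCoh.Rpush σ ⋙ DCoh.Rpush p) ≪≫
      Functor.isoWhiskerRight c (DCoh.Lpull σ ⋙ DCoh.Rpush σ ⋙ DCoh.Rpush p) ≪≫
      Functor.isoWhiskerLeft (DCoh.LTensorCx W) (Functor.isoWhiskerRight s (DCoh.Rpush p) ≪≫
        Functor.leftUnitor _))

variable (p : Z ⟶ X) (q : Z ⟶ Y)

set_option maxHeartbeats 1600000 in
/-- the right adjoint of a kernel functor with perfect kernel -/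
theorem nonempty_adj [QuasiCompact p] [QuasiSeparated p] [CompactSpace Z] [QuasiSeparatedSpace Z]
    [CompactSpace Y] [QuasiSeparatedSpace Y] [IsProper q] [Flat q] [LocallyOfFinitePresentation q]
    (K : CochainComplex Z.Modules ℤ) (hK : DCoh.IsPerfect (DCoh.toD _ K))
    [DCoh.HasLpull p] [DCoh.HasLTensorCx K] [DCoh.HasRpush q] [DCoh.HasRSheafHom K]
    (hR : DCoh.RpushPreservesQCoh q) [DCoh.HasShriek q hR]
    (OY : DCoh.DQCoh Y) (hOY : OY.obj ≅ DCoh.inD Y (Coh.structureModule Y))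
    (W : CochainComplex Z.Modules ℤ)
    (hW : Nonempty (DCoh.toD Z W ≅ (DCoh.RSheafHom K).obj (DCoh.dualizingCx q hR OY)))
    [DCoh.HasLpull q] [DCoh.HasLTensorCx W] [DCoh.HasRpush p]
    (h : ∀ M : DCoh.D X, DCoh.IsQCohD M →
      DCoh.IsQCohD ((DCoh.Lpull p ⋙ DCoh.LTensorCx K ⋙ DCoh.Rpush q).obj M))
    (h' : ∀ N : DCoh.D Y, DCoh.IsQCohD N →
      DCoh.IsQCohD ((DCoh.Lpull q ⋙ DCoh.LTensorCx W ⋙ DCoh.Rpush p).obj N)) :
    Nonempty (ObjectProperty.lift (DCoh.IsQCohD (X := Y))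
        (ObjectProperty.ι (DCoh.IsQCohD (X := X)) ⋙ DCoh.Lpull p ⋙ DCoh.LTensorCx K ⋙ DCoh.Rpush q)
        (fun M => h M.obj M.property) ⊣
      ObjectProperty.lift (DCoh.IsQCohD (X := X))
        (ObjectProperty.ι (DCoh.IsQCohD (X := Y)) ⋙ DCoh.Lpull q ⋙ DCoh.LTensorCx W ⋙ DCoh.Rpush p)
        (fun N => h' N.obj N.property)) := by
  haveI := fun {V : Scheme.{u}} (E : CochainComplex V.Modules ℤ) => Groth.L00.KFlat.hasLTensorCx E
  haveI := fun {V : Scheme.{u}} (E : CochainComplex V.Modules ℤ) => RHom.hasRSheafHom E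
  let qP := DCoh.IsQCohD (X := Z)
  -- the dual
  obtain ⟨D, hD, ⟨d⟩⟩ := Groth.L07.BvdB.DualHom.exists_kflat_rep
    ((DCoh.RSheafHom K).obj (DCoh.inD Z (Coh.structureModule Z)))
  obtain ⟨hDp, ⟨ρ⟩⟩ := Groth.L10.DualNat.nonempty_RSheafHom_iso_LT K hK D ⟨d⟩
  -- the twisted pull-back
  obtain ⟨E, hE, ⟨eE⟩⟩ := Groth.L07.BvdB.DualHom.exists_kflat_rep (DCoh.dualizingCx q hR OY)
  obtain ⟨as⟩ := Groth.L10.FMBC.nonempty_assocD E D hE hD
  obtain ⟨w⟩ := hW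
  obtain ⟨cW⟩ := ProjQC.nonempty_LTensorCx_congr (((Assoc.allIso D hD).app E).symm ≪≫
    (DCoh.LTensorCx D).mapIso eE ≪≫ (ρ.app _).symm ≪≫ w.symm)
  have hperf : ∀ P : DCoh.DQCoh Z, DCoh.IsPerfect P.obj → DCoh.IsPerfect ((DCoh.RpushQ q hR).obj P).obj :=
    fun P hP => isPerfect_Rpush q hP
  obtain ⟨T⟩ := AdjTensor.nonempty_iso q (DCoh.shriekAdj q hR) hperf OY ⟨hOY⟩ E ⟨eE⟩
  -- adjunctions
  let F := DCoh.Lpull p ⋙ DCoh.LTensorCx K
  let G := DCoh.RSheafHom K ⋙ DCoh.Rpush p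
  let adj₀ : F ⊣ G := (Groth.L29.BC.adj p).comp (DCoh.RSheafHomAdj K)
  have hKq : DCoh.IsQCohD (DCoh.toD Z K) := PCQCoh.isQCohD_of_perfect hK
  have hDq : DCoh.IsQCohD (DCoh.toD Z D) := PCQCoh.isQCohD_of_perfect hDp
  obtain ⟨a₁⟩ := nonempty_restrict adj₀ (DCoh.IsQCohD (X := X)) qP
    (fun M hM => isQCohD_LTensorCx K hKq (isQCohD_Lpull p hM))
    (fun N hN => RpushQC.isQCohD_Rpush p ((DCoh.RSheafHom K).obj N)
      (isQCohD_of_iso (ρ.app N).symm (isQCohD_LTensorCx D hDq hN)))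
  let a₂ := a₁.comp (DCoh.shriekAdj q hR)
  refine ⟨(a₂.ofNatIsoLeft ?_).ofNatIsoRight ?_⟩
  · exact NatIso.ofComponents (fun M => ObjectProperty.isoMk _ (Iso.refl _))
      (fun f => by apply ObjectProperty.hom_ext; exact (Category.comp_id _).trans (Category.id_comp _).symm)
  · let e : DCoh.shriek q hR ⋙ qP.ι ⋙ DCoh.RSheafHom K ⋙ DCoh.Rpush p ≅
        ObjectProperty.ι (DCoh.IsQCohD (X := Y)) ⋙ DCoh.Lpull q ⋙ DCoh.LTensorCx W ⋙ DCoh.Rpush p :=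
      Functor.isoWhiskerRight T (DCoh.RSheafHom K ⋙ DCoh.Rpush p) ≪≫
        Functor.isoWhiskerLeft (ObjectProperty.ι (DCoh.IsQCohD (X := Y)) ⋙ DCoh.Lpull q)
          (Functor.isoWhiskerRight (Functor.isoWhiskerLeft (DCoh.LTensorCx E) ρ ≪≫ as ≪≫ cW) (DCoh.Rpush p))
    exact NatIso.ofComponents (fun N => ObjectProperty.isoMk _ (e.app N))
      (fun f => by apply ObjectProperty.hom_ext; exact e.hom.naturality f)

end Groth.L10.FMAdj
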